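import Mathlib
import Cfsg.Agent.Base
import Cfsg.Agent.S0885

/-! Involutions of simple Zassenhaus groups with small two-point stabilisers of odd order. -/

set_option autoImplicit false

open MulAction Cfsg

namespace H27

variable {G Ω : Type*} [Group G] [MulAction G Ω] {U : Subgroup G} {a b : Ω}

theorem ZData.invol_mem [Finite G] (hZ : ZData G Ω) (hU : IsKernel U a) (hb : b ≠ a)
    (hodd : Odd (Nat.card (stabilizer G a ⊓ stabilizer G b : Subgroup G))) {t : G}
    (ht : orderOf t = 2) (hta : t • a = a) : t ∈ U := by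
  by_contra h
  obtain ⟨y, hy, e⟩ := hZ.exists_fix_of_notMem hU hb hta h
  have h1 := (hZ.card_eq hU hb).symm.trans (hZ.card_eq hU hy)
  have h2 := Nat.eq_of_mul_eq_mul_left (Nat.mul_pos (Nat.succ_pos _) Nat.card_pos) h1
  have h3 := Subgroup.orderOf_dvd_natCard (stabilizer G a ⊓ stabilizer G y) (x := t) ⟨hta, e⟩
  rw [ht, ← h2] at h3
  exact (Nat.not_even_iff_odd.2 hodd) (even_iff_two_dvd.2 h3)

theorem mul_self_of_orderOf {t : G} (ht : orderOf t = 2) : t * t = 1 := by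
  rw [← pow_two, ← ht, pow_orderOf_eq_one]

theorem orderOf_conj_two {t : G} (ht : orderOf t = 2) (k : G) : orderOf (k * t * k⁻¹) = 2 :=
  ((MulAut.conj k).orderOf_eq t).trans ht

theorem ZData.invol_isConj [Finite G] (hZ : ZData G Ω) (hb : b ≠ a) {v : G} (hva : v • a = b)
    (hvb : v • b = a) (hinv : ∀ x ∈ stabilizer G a ⊓ stabilizer G b, v * x * v⁻¹ = x⁻¹)
    (hodd : Odd (Nat.card (stabilizer G a ⊓ stabilizer G b : Subgroup G))) {t : G}
    (ht : orderOf t = 2) : IsConj v t := by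
  have ht2 := mul_self_of_orderOf ht
  obtain ⟨c, hc⟩ : ∃ c : Ω, t • c ≠ c := by
    by_contra h
    push Not at h
    rw [hZ.faithful t h] at ht
    simp at ht
  obtain ⟨g, h1, h2⟩ := hZ.two c (t • c) a b hc.symm hb.symm
  have h3 : g * t * g⁻¹ * v⁻¹ ∈ stabilizer G a ⊓ stabilizer G b := by
    refine mem_stab2.2 ⟨?_, ?_⟩
    · rw [mul_smul, inv_smul_eq_iff.2 hvb.symm, mul_smul, inv_smul_eq_iff.2 h2.symm, mul_smul,
        ← mul_smul t, ht2, one_smul, h1]
    · rw [mul_smul, inv_smul_eq_iff.2 hva.symm, mul_smul, inv_smul_eq_iff.2 h1.symm, mul_smul, h2]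
  obtain ⟨y, hy⟩ := (powCoprime (G := (stabilizer G a ⊓ stabilizer G b : Subgroup G)) (n := 2)
    (Nat.coprime_two_right.2 hodd)).surjective ⟨_, h3⟩
  have h4 : (y : G) ^ 2 = g * t * g⁻¹ * v⁻¹ := congrArg Subtype.val hy
  have h5 := hinv _ (Subgroup.inv_mem _ y.2)
  refine isConj_iff.2 ⟨g⁻¹ * y, ?_⟩
  calc g⁻¹ * y * v * (g⁻¹ * y)⁻¹ = g⁻¹ * (y * (v * (y : G)⁻¹ * v⁻¹)) * v * g := by group
    _ = t := by rw [h5, inv_inv, ← pow_two, h4]; group

/-- The situation of a simple Zassenhaus group with `e` odd and `2 e < h - 1`. -/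
structure SmallOdd (U : Subgroup G) (a b : Ω) (z : G) : Prop where
  zd : ZData G Ω
  ker : IsKernel U a
  ne : b ≠ a
  odd : Odd (Nat.card (stabilizer G a ⊓ stabilizer G b : Subgroup G))
  two : IsPGroup 2 U
  mem : z ∈ U
  ord : orderOf z = 2
  cent : ∀ u ∈ U, u * z = z * u
  conj : ∀ t : G, orderOf t = 2 → IsConj z t

theorem exists_smallOdd [Finite G] [Fintype Ω] [IsSimpleGroup G] (hZ : IsZassenhausGroup G Ω)
    (hU : IsKernel U a) (hb : b ≠ a)
    (hodd : Odd (Nat.card (stabilizer G a ⊓ stabilizer G b : Subgroup G)))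
    (hlt : 2 * Nat.card (stabilizer G a ⊓ stabilizer G b : Subgroup G) + 1 < Nat.card U) :
    ∃ z, SmallOdd U a b z := by
  have hD := ZData.of_zassenhaus hZ
  obtain ⟨h2, -⟩ := (Cfsg.Agent.S0885.simple_case hZ hb hU hodd).resolve_left hlt.not_ge
  have : Nontrivial U := Finite.one_lt_card_iff_nontrivial.1 (by omega)
  have hZc := h2.center_nontrivial
  obtain ⟨n, hn, hc⟩ := (h2.to_subgroup (Subgroup.center U)).nontrivial_iff_card.1 hZc
  obtain ⟨z, hz⟩ := exists_prime_orderOf_dvd_card' (G := Subgroup.center U) 2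
    (by rw [hc]; exact dvd_pow_self 2 hn.ne')
  have ho : orderOf ((z : U) : G) = 2 := by rw [Subgroup.orderOf_coe, Subgroup.orderOf_coe, hz]
  obtain ⟨-, v, -, hva, hvb, hv⟩ := H13.Zass.simple_odd_twoStab hZ hb.symm hodd
  exact ⟨(z : U), hD, hU, hb, hodd, h2, (z : U).2,  ho, fun u hu =>
    congrArg Subtype.val (Subgroup.mem_center_iff.1 z.2 ⟨u, hu⟩), fun t ht =>
    (hD.invol_isConj hb hva hvb hv hodd ho).symm.trans (hD.invol_isConj hb hva hvb hv hodd ht)⟩

namespace SmallOdd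

variable [Finite G] {z : G} (h : SmallOdd U a b z)
include h

omit [Finite G] in
theorem ne_one : z ≠ 1 := by
  intro e
  have := h.ord
  rw [e] at this
  simp at this

theorem card_invol : Nat.card {x : G // orderOf x = 2} =
    Nat.card (stabilizer G a ⊓ stabilizer G b : Subgroup G) * (Nat.card U + 1) := by
  have := Fintype.ofFinite G
  have h1 : Subgroup.centralizer ({z} : Set G) = U :=
    le_antisymm (h.zd.centralizer_le h.ker h.ne z h.mem h.ne_one)
      fun u hu => Subgroup.mem_centralizer_singleton_iff.2 (h.cent u hu)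
  have h2 : Nat.card {x : G // orderOf x = 2} = U.index := by
    rw [← h1, ← H6.card_isConj_eq_index]
    refine Nat.card_congr (Equiv.subtypeEquivRight fun x => ⟨h.conj x, fun hx => ?_⟩)
    obtain ⟨k, rfl⟩ := isConj_iff.1 hx
    exact orderOf_conj_two h.ord k
  have h3 := U.card_mul_index
  rw [h.zd.card_eq h.ker h.ne] at h3
  rw [h2]
  exact Nat.eq_of_mul_eq_mul_left (Nat.card_pos (α := U)) (h3.trans (by ring))

omit [Finite G] in
theorem exists_conj {t : G} (ht : orderOf t = 2) (hta : t • a = a) :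
    (∃ w ∈ stabilizer G a ⊓ stabilizer G b, t = w * z * w⁻¹) ∧ ∀ u ∈ U, u * t = t * u := by
  obtain ⟨g, hg⟩ := isConj_iff.1 (h.conj t ht)
  have hga : g • a = a := by
    have : z • g⁻¹ • a = g⁻¹ • a := by
      rw [eq_inv_smul_iff, ← mul_smul, ← mul_smul, hg, hta]
    exact (inv_smul_eq_iff.1 (h.ker.isKer.fix z h.mem h.ne_one _ this)).symm
  obtain ⟨u, hu, x, hxa, hxb, rfl⟩ := h.ker.isKer.exists_mul h.ne hga
  have h1 : ∀ k ∈ U, k * (x * z * x⁻¹) = (x * z * x⁻¹) * k := fun k hk => by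
    have := h.cent _ (h.ker.conj x⁻¹ (inv_smul_eq_iff.2 hxa.symm) k hk)
    calc k * (x * z * x⁻¹) = x * (x⁻¹ * k * x⁻¹⁻¹ * z) * x⁻¹ := by group
      _ = _ := by rw [this]; group
  have h2 : t = x * z * x⁻¹ := by
    rw [← hg]
    calc u * x * z * (u * x)⁻¹ = u * (x * z * x⁻¹) * u⁻¹ := by group
      _ = _ := by rw [h1 u hu]; group
  exact ⟨⟨x, ⟨hxa, hxb⟩, h2⟩, h2 ▸ h1⟩

theorem commute_of_mul_mem {x y : G} (hx : orderOf x = 2) (hy : orderOf y = 2) (hxy : x * y ∈ U) :
    x * y = y * x := by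
  have hx2 := mul_self_of_orderOf hx
  have hy2 := mul_self_of_orderOf hy
  by_cases h1 : x * y = 1
  · rw [h1, eq_comm, mul_eq_one_comm, h1]
  have hxa : x • a = a := by
    refine h.ker.isKer.fix _ hxy h1 _ ?_
    have h2 := h.ker.fix _ (U.inv_mem hxy)
    rw [mul_inv_rev, inv_eq_of_mul_eq_one_right hx2, inv_eq_of_mul_eq_one_right hy2] at h2
    rw [mul_smul, ← mul_smul y, h2]
  have := (h.exists_conj hx hxa).2 _ hxy
  calc x * y = x * (x * y * x) * x * x := by
        rw [mul_assoc _ x x, hx2, this]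
        calc x * y = x * (x * x) * y := by rw [hx2, mul_one]
          _ = _ := by group
    _ = (x * x) * y * x * (x * x) := by group
    _ = y * x := by rw [hx2]; group

theorem le_card_classes : Nat.card (stabilizer G a ⊓ stabilizer G b : Subgroup G) ≤
    Nat.card {C : ConjClasses G // ∀ g : G, ConjClasses.mk g = C → g ∉ U} := by
  classical
  choose ρ hρ using ConjClasses.mk_surjective (α := G)
  have hκ : ∀ g : G, ∃ k : G, k * ρ (ConjClasses.mk g) * k⁻¹ = g := fun g =>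
    isConj_iff.1 (ConjClasses.mk_eq_mk_iff_isConj.1 (hρ _))
  choose κ hκ using hκ
  have hγ : ∀ x : {x : G // orderOf x = 2}, ∃ k : G, k * z * k⁻¹ = x := fun x =>
    isConj_iff.1 (h.conj x x.2)
  choose γ hγ using hγ
  let Φ : ({C : ConjClasses G // ∀ g : G, ConjClasses.mk g = C → g ∉ U} × G) ⊕
      ({x : G // orderOf x = 2} × (stabilizer G a ⊓ stabilizer G b : Subgroup G)) → G × G :=
    Sum.elim (fun p => (p.2 * (κ (p.2 * ρ p.1 * p.2⁻¹)⁻¹)⁻¹, p.2 * ρ p.1 * p.2⁻¹))
      (fun p => (p.1, p.1 * (γ p.1 * (p.2 * z * (p.2 : G)⁻¹) * (γ p.1)⁻¹)))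
  have key : ∀ p : {x : G // orderOf x = 2} × {x : G // orderOf x = 2},
      ∃ q, Φ q = ((p.1 : G), (p.1 : G) * p.2) := by
    rintro ⟨x, y⟩
    have hx2 := mul_self_of_orderOf x.2
    have hy2 := mul_self_of_orderOf y.2
    by_cases hc : (x : G) * y = y * x
    · have h1 : orderOf ((γ x)⁻¹ * y * (γ x)⁻¹⁻¹) = 2 := orderOf_conj_two y.2 _
      have h2 : (γ x)⁻¹ * y * (γ x)⁻¹⁻¹ ∈ U := by
        refine h.zd.mem_of_commute h.ker h.ne h.mem h.ne_one ?_
        calc _ = (γ x)⁻¹ * (y * (γ x * z * (γ x)⁻¹) * (y : G)⁻¹) * γ x := by group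
          _ = z := by rw [hγ, ← hc, mul_inv_cancel_right, ← hγ x]; group
      obtain ⟨⟨w, hw, e⟩, -⟩ := h.exists_conj h1 (h.ker.fix _ h2)
      refine ⟨Sum.inr (x, ⟨w, hw⟩), Prod.ext rfl ?_⟩
      change (x : G) * (γ x * (w * z * w⁻¹) * (γ x)⁻¹) = x * y
      rw [← e]; group
    · have h1 : (x : G) * ((x : G) * y)⁻¹ * (x : G)⁻¹ = x * y := by
        rw [mul_inv_rev, inv_eq_of_mul_eq_one_right hx2, inv_eq_of_mul_eq_one_right hy2]
        calc _ = (x : G) * y * (x * x) := by group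
          _ = _ := by rw [hx2, mul_one]
      have h2 : ConjClasses.mk ((x : G) * y)⁻¹ = ConjClasses.mk ((x : G) * y) :=
        ConjClasses.mk_eq_mk_iff_isConj.2 (isConj_iff.2 ⟨_, h1⟩)
      have h3 : x * κ ((x : G) * y)⁻¹ * ρ (ConjClasses.mk ((x : G) * y)) *
          (x * κ ((x : G) * y)⁻¹)⁻¹ = x * y := by
        rw [← h2]
        calc _ = x * (κ ((x : G) * y)⁻¹ * ρ (ConjClasses.mk ((x : G) * y)⁻¹) *
            (κ ((x : G) * y)⁻¹)⁻¹) * (x : G)⁻¹ := by group
          _ = _ := by rw [hκ, h1]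
      refine ⟨Sum.inl (⟨ConjClasses.mk ((x : G) * y), fun g hg hgU => hc ?_⟩,
        x * κ ((x : G) * y)⁻¹), Prod.ext ?_ h3⟩
      · obtain ⟨k, hk⟩ := isConj_iff.1 (ConjClasses.mk_eq_mk_iff_isConj.1 hg.symm)
        have := h.commute_of_mul_mem (x := k * x * k⁻¹) (y := k * y * k⁻¹)
          (orderOf_conj_two x.2 _)
          (orderOf_conj_two y.2 _)
          (by rw [← hk] at hgU; convert hgU using 1; group)
        calc (x : G) * y = k⁻¹ * (k * x * k⁻¹ * (k * y * k⁻¹)) * k := by group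
          _ = _ := by rw [this]; group
      · change x * κ ((x : G) * y)⁻¹ * (κ (x * κ ((x : G) * y)⁻¹ *
          ρ (ConjClasses.mk ((x : G) * y)) * (x * κ ((x : G) * y)⁻¹)⁻¹)⁻¹)⁻¹ = x
        rw [h3, mul_inv_cancel_right]
  choose f hf using key
  have hinj : Function.Injective f := by
    rintro ⟨x, y⟩ ⟨x', y'⟩ e
    have h1 := (hf (x, y)).symm.trans ((congrArg Φ e).trans (hf (x', y')))
    obtain ⟨h2, h3⟩ := Prod.ext_iff.1 h1
    simp only at h2 h3
    rw [h2, mul_right_inj] at h3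
    exact Prod.ext (Subtype.ext h2) (Subtype.ext h3)
  have h1 := Nat.card_le_card_of_injective f hinj
  rw [Nat.card_sum, Nat.card_prod, Nat.card_prod, Nat.card_prod, h.card_invol,
    h.zd.card_eq h.ker h.ne] at h1
  have he : 0 < Nat.card (stabilizer G a ⊓ stabilizer G b : Subgroup G) := Nat.card_pos
  have hu : 0 < Nat.card U := Nat.card_pos
  generalize Nat.card (stabilizer G a ⊓ stabilizer G b : Subgroup G) = e at *
  generalize Nat.card U = n at *
  generalize Nat.card {C : ConjClasses G // ∀ g : G, ConjClasses.mk g = C → g ∉ U} = c at *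
  have h2 : ((n + 1) * n * e) * e ≤ ((n + 1) * n * e) * c := by nlinarith
  exact Nat.le_of_mul_le_mul_left h2 (by positivity)

end SmallOdd

end H27
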